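import Mathlib
import Cfsg.Agent.Lib.helper8.C3S.Defs

set_option autoImplicit false
set_option linter.unusedVariables false
set_option linter.unusedSectionVars false

/-!
# Project S5975 (designer helper10): elements of prime order of `Sp_{2d}(q)` and the field-extension subgroups `Sp_{2d/k}(q^k).k`

Abstract setting = that of project C3S (`Cfsg.Agent.Lib.helper8.C3S.Defs`: `SpB F B`, `Spf F B`): `V` a vector space over the field `K`,
`K` a finite extension of `F`, `B` a non-degenerate alternating `K`-bilinear form on `V`, `f = Tr_{K/F} ∘ B`; the groups live in `V ≃ₗ[F] V`.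
-/

namespace Cfsg.Agent.Lib.Helper10.C3E

open Module

variable {F : Type*} (K : Type*) {V : Type*} [Field F] [Field K] [Algebra F K] [AddCommGroup V] [Module F V] [Module K V]
  [IsScalarTower F K V]

/-- `g` is `K`-linear -/
def Lin (g : V ≃ₗ[F] V) : Prop := ∀ (a : K) (x : V), g (a • x) = a • g x

/-- `g` normalises `K`: it is semilinear with respect to some map `σ : K → K` -/
def Nrm (g : V ≃ₗ[F] V) : Prop := ∃ σ : K → K, ∀ (a : K) (x : V), g (a • x) = σ a • g x

variable {K}

/-- the `c`-eigenspace of `g` -/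
def fixc (g : V ≃ₗ[F] V) (c : F) : Submodule F V := LinearMap.ker ((g : V →ₗ[F] V) - c • LinearMap.id)

theorem mem_fixc (g : V ≃ₗ[F] V) (c : F) (x : V) : x ∈ fixc g c ↔ g x = c • x := by
  rw [fixc, LinearMap.mem_ker, LinearMap.sub_apply, LinearMap.smul_apply, LinearMap.id_apply, sub_eq_zero]
  rfl

/-- the rank of `g - c` -/
noncomputable def rk (g : V ≃ₗ[F] V) (c : F) : ℕ := finrank F (LinearMap.range ((g : V →ₗ[F] V) - c • LinearMap.id))

theorem lin_nrm (g : V ≃ₗ[F] V) (h : Lin K g) : Nrm K g := ⟨id, h⟩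

end Cfsg.Agent.Lib.Helper10.C3E
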