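import Mathlib
import Cfsg.Prelude.Def_GeometricClasses
import Cfsg.Agent.S5646
import Cfsg.Agent.S0245
import Cfsg.Agent.Lib.helper6.Symp
import Cfsg.Agent.Lib.helper6.SPXFSADIM
import Cfsg.Agent.Lib.Helper20.C3DESC
import Cfsg.Agent.Lib.helper8.C3S.Transfer
import Cfsg.Agent.Lib.Lead.TSDEXODDlead
import Cfsg.Agent.Lib.Helper27.SPSQNEG
import Cfsg.Agent.Lib.Helper10.C3E.Defs
import Cfsg.Agent.Lib.Helper29.C3EEX
import Cfsg.Agent.Lib.helper7.C3EARITH
import Cfsg.Agent.Lib.helper4.C3EDERP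
import Cfsg.Agent.Lib.helper15.C3EDER2
import Cfsg.Agent.Lib.helper7.C3EDERR
import Cfsg.Agent.Lib.Lead.C3EEMB
import Cfsg.Agent.Lib.Helper24.C3EIF1
import Cfsg.Agent.Lib.Helper27.C3EIF2
import Cfsg.Agent.Lib.Helper27.C3EIF3
import Cfsg.Agent.Lib.Helper9.C3ERKCONJ
import Cfsg.Agent.Lib.Helper9.C3ERKMAT

set_option autoImplicit false
set_option linter.unusedVariables false
set_option linter.unusedSectionVars false
set_option linter.style.haveILetI false

/-! # Project S5975 : MAIN (transfer, modelled on helper8's `c3str_all`, and the case analysis) -/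

namespace Cfsg.Agent.Lib.Helper10.C3E

open Cfsg Cfsg.Geo Module Cfsg.Agent.Lib.helper8.C3S
open scoped MatrixGroups Matrix

variable {F : Type*} [Field F] {d : ℕ}

theorem c3emain_conj_pow {G : Type*} [Group G] (g x : G) (n : ℕ) : (g⁻¹ * x * g) ^ n = g⁻¹ * x ^ n * g := by
  induction n with
  | zero => simp
  | succ n ih => rw [pow_succ, ih, pow_succ]; group

/-- a matrix `x` with `0 < rank (x - 1) < 2d` is not a scalar -/
theorem c3emain_nonscalar (x : Matrix (Fin d ⊕ Fin d) (Fin d ⊕ Fin d) F) (h0 : 0 < (x - 1).rank)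
    (h1 : (x - 1).rank < 2 * d) (z : F) : x ≠ z • (1 : Matrix (Fin d ⊕ Fin d) (Fin d ⊕ Fin d) F) := by
  intro h
  have h2 : x - 1 = (z - 1) • (1 : Matrix (Fin d ⊕ Fin d) (Fin d ⊕ Fin d) F) := by
    rw [h, sub_smul, one_smul]
  rw [h2] at h0 h1
  by_cases hz : z - 1 = 0
  · rw [hz, zero_smul, Matrix.rank_zero] at h0
    exact lt_irrefl 0 h0
  · have hu : IsUnit ((z - 1) • (1 : Matrix (Fin d ⊕ Fin d) (Fin d ⊕ Fin d) F)) := by
      refine ⟨⟨(z - 1) • 1, (z - 1)⁻¹ • 1, ?_, ?_⟩, rfl⟩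
      · rw [Matrix.smul_mul, Matrix.mul_smul, mul_one, smul_smul, mul_inv_cancel₀ hz, one_smul]
      · rw [Matrix.smul_mul, Matrix.mul_smul, mul_one, smul_smul, inv_mul_cancel₀ hz, one_smul]
    rw [Matrix.rank_of_isUnit _ hu, Fintype.card_sum, Fintype.card_fin] at h1
    omega

/-- **S5975**, with the rows of the project as black boxes -/
theorem c3e_main [Fintype F] {p : ℕ} [Fact p.Prime] [CharP F p] {q : ℕ} (hq : Fintype.card F = q)
    (hd : 2 ≤ d) {k : ℕ} (hk : k.Prime)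
    (K : Subalgebra F (Matrix (Fin d ⊕ Fin d) (Fin d ⊕ Fin d) F))
    (hK : IsFieldSubalgebra k K) (hsa : IsSelfAdjointFor (Cfsg.sympForm d F) K)
    (halt : ∀ a ∈ K, ∀ v : (Fin d ⊕ Fin d → F), Cfsg.sympForm d F (Matrix.mulVec a v) v = 0)
    (r : ℕ) [Fact r.Prime]
    (hΩ : r ∣ (subalgebraNormalizer K).relIndex (Cfsg.spGL d F)) :
    (∀ x ∈ Cfsg.spGL d F, (∃ z : F, ((x ^ r : GL (Fin d ⊕ Fin d) F) : Matrix (Fin d ⊕ Fin d) (Fin d ⊕ Fin d) F) =
        z • (1 : Matrix (Fin d ⊕ Fin d) (Fin d ⊕ Fin d) F)) →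
      (∀ z : F, (x : Matrix (Fin d ⊕ Fin d) (Fin d ⊕ Fin d) F) ≠ z • (1 : Matrix (Fin d ⊕ Fin d) (Fin d ⊕ Fin d) F)) →
      ∃ g ∈ Cfsg.spGL d F, g⁻¹ * x * g ∈ subalgebraNormalizer K) ↔
    (r = 2 ∧ d = 2 ∧ k = 2 ∧ Odd q) := by
  classical
  have hrP : r.Prime := Fact.out
  have hpP : p.Prime := Fact.out
  obtain ⟨fK, hmat_mul, hmat_add, hmat_one, hmat_zero⟩ : ∃ fK : Field (KS K),
      (∀ a b : KS K, (a * b).mat = a.mat * b.mat) ∧ (∀ a b : KS K, (a + b).mat = a.mat + b.mat) ∧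
      (1 : KS K).mat = 1 ∧ (0 : KS K).mat = 0 :=
    ⟨(c3str_isField K hK hk.pos).toField, fun _ _ => rfl, fun _ _ => rfl, rfl, rfl⟩
  have hmat_mem : ∀ a : KS K, a.mat ∈ K := fun a => (show ↥K from a).2
  have hmat_inj : ∀ a b : KS K, a.mat = b.mat → a = b := fun a b h => Subtype.ext h
  have hmat_surj : ∀ k ∈ K, ∃ a : KS K, a.mat = k := fun k hk => ⟨(show KS K from (⟨k, hk⟩ : ↥K)), rfl⟩
  let i : F →+* KS K :=
    { toFun := fun c => (show KS K from (algebraMap F ↥K c))
      map_one' := hmat_inj _ _ (by rw [hmat_one]; exact congrArg Subtype.val (map_one (algebraMap F ↥K)))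
      map_mul' := fun a b => hmat_inj _ _ (by
        rw [hmat_mul]; exact congrArg Subtype.val (map_mul (algebraMap F ↥K) a b))
      map_zero' := hmat_inj _ _ (by rw [hmat_zero]; exact congrArg Subtype.val (map_zero (algebraMap F ↥K)))
      map_add' := fun a b => hmat_inj _ _ (by
        rw [hmat_add]; exact congrArg Subtype.val (map_add (algebraMap F ↥K) a b)) }
  letI aK : Algebra F (KS K) := RingHom.toAlgebra i
  have hi : ∀ c : F, (i c).mat = c • (1 : Matrix (Fin d ⊕ Fin d) (Fin d ⊕ Fin d) F) := fun c => by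
    show ((algebraMap F ↥K c : ↥K) : Matrix (Fin d ⊕ Fin d) (Fin d ⊕ Fin d) F) = _
    rw [Subalgebra.coe_algebraMap, Algebra.algebraMap_eq_smul_one]
  let ρ : KS K →+* Module.End F (Fin d ⊕ Fin d → F) :=
    { toFun := fun k => Matrix.toLin' k.mat
      map_one' := by rw [hmat_one, Matrix.toLin'_one]; rfl
      map_mul' := fun a b => by rw [hmat_mul, Matrix.toLin'_mul]; rfl
      map_zero' := by rw [hmat_zero, map_zero]
      map_add' := fun a b => by rw [hmat_add, map_add] }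
  letI mK : Module (KS K) (Fin d ⊕ Fin d → F) := Module.compHom (Fin d ⊕ Fin d → F) ρ
  have hsm : ∀ (k : KS K) (x : Fin d ⊕ Fin d → F), k • x = k.mat *ᵥ x := fun _ _ => rfl
  haveI : IsScalarTower F (KS K) (Fin d ⊕ Fin d → F) := ⟨fun c k x => by
    rw [hsm, hsm, Algebra.smul_def, hmat_mul]
    show ((i c).mat * k.mat) *ᵥ x = _
    rw [hi, Matrix.smul_mul, Matrix.one_mul, Matrix.smul_mulVec]⟩
  haveI : Finite (KS K) := (inferInstance : Finite ↥K)
  haveI : FiniteDimensional (KS K) (Fin d ⊕ Fin d → F) := Module.Finite.of_finite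
  haveI : FiniteDimensional F (KS K) := Module.Finite.of_finite
  have hfr : finrank F (KS K) = k := by
    rw [← hK.finrank_eq]
    let e : KS K ≃ₗ[F] ↥K :=
      { toFun := fun k => (show ↥K from k)
        invFun := fun k => (show KS K from k)
        left_inv := fun _ => rfl
        right_inv := fun _ => rfl
        map_add' := fun a b => Subtype.ext (hmat_add a b)
        map_smul' := fun c k => by
          apply Subtype.ext
          show (c • k).mat = c • k.mat
          rw [Algebra.smul_def, hmat_mul]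
          show (i c).mat * k.mat = _
          rw [hi, Matrix.smul_mul, Matrix.one_mul] }
    exact e.finrank_eq
  have hfV : finrank F (Fin d ⊕ Fin d → F) = 2 * d := by
    rw [Module.finrank_fintype_fun_eq_card, Fintype.card_sum, Fintype.card_fin]
    omega
  have hkK : (finrank F (KS K)).Prime := by rw [hfr]; exact hk
  -- the `K`-bilinear form
  have hsa' : ∀ (k : KS K) (x y : Fin d ⊕ Fin d → F), sympBil d F (k • x) y = sympBil d F x (k • y) := by
    intro k x y
    rw [sympBil_apply, sympBil_apply, hsm, hsm]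
    exact hsa k.mat (hmat_mem k) x y
  obtain ⟨B, hB1, hB2, -, -, hB5, -, hB7⟩ :=
    Cfsg.Agent.Lib.Helper20.C3Desc.c3desc_exists_finite (K := KS K) (sympBil d F) hsa'
  have hB0 : ∀ x, B x x = 0 := hB5 (fun k x => by
    rw [sympBil_apply, hsm]
    exact halt k.mat (hmat_mem k) x)
  have hBn : ∀ x, x ≠ 0 → ∃ y, B x y ≠ 0 := hB7 (fun x hx => by
    obtain ⟨y, hy⟩ := Cfsg.Agent.Lib.helper6.sympForm_nondeg d x hx
    exact ⟨y, by rw [sympBil_apply]; exact hy⟩)
  have hBf : ∀ x y, Algebra.trace F (KS K) (B x y) = Cfsg.sympForm d F x y := fun x y => by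
    rw [← hB1, sympBil_apply]
  have hfn : ∀ x : Fin d ⊕ Fin d → F, (∀ y, Algebra.trace F (KS K) (B x y) = 0) → x = 0 := by
    intro x hx
    by_contra hne
    obtain ⟨y, hy⟩ := Cfsg.Agent.Lib.helper6.sympForm_nondeg d x hne
    exact hy (by rw [← hBf]; exact hx y)
  -- semilinear maps (for a bijection `σ`) normalise `K`
  have hsemi_mem : ∀ (g : (Fin d ⊕ Fin d → F) ≃ₗ[F] (Fin d ⊕ Fin d → F)) (σ : KS K → KS K), Function.Surjective σ →
      (∀ (a : KS K) (x : Fin d ⊕ Fin d → F), g (a • x) = σ a • g x) →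
      (glS d F).symm g ∈ subalgebraNormalizer K := by
    intro g σ hsurj hσ
    have h1 : ∀ a : KS K, ((glS d F).symm g : Matrix (Fin d ⊕ Fin d) (Fin d ⊕ Fin d) F) * a.mat *
        ((((glS d F).symm g)⁻¹ : GL (Fin d ⊕ Fin d) F) : Matrix (Fin d ⊕ Fin d) (Fin d ⊕ Fin d) F) = (σ a).mat := by
      intro a
      apply c3str_mat_ext
      intro x
      rw [c3str_mul_mul_mulVec, glS_inv_mulVec, glS_symm_mulVec, ← hsm, hσ, LinearEquiv.apply_symm_apply, hsm]
    intro k
    constructor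
    · intro hk
      obtain ⟨a, rfl⟩ := hmat_surj k hk
      rw [h1]
      exact hmat_mem _
    · intro hk
      obtain ⟨b, hb⟩ := hmat_surj _ hk
      obtain ⟨a, rfl⟩ := hsurj b
      rw [← h1 a] at hb
      have h4 : k = a.mat := by
        have h5 := congrArg (fun M => ((((glS d F).symm g)⁻¹ : GL (Fin d ⊕ Fin d) F) : Matrix (Fin d ⊕ Fin d) (Fin d ⊕ Fin d) F) * M *
          ((glS d F).symm g : Matrix (Fin d ⊕ Fin d) (Fin d ⊕ Fin d) F)) hb
        simp only [← mul_assoc, ← Units.val_mul, inv_mul_cancel, Units.val_one, one_mul] at h5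
        simp only [mul_assoc, ← Units.val_mul, inv_mul_cancel, Units.val_one, mul_one] at h5
        exact h5.symm
      rw [h4]
      exact hmat_mem _
  -- elements of `N(K)` are semilinear
  have hmem_semi : ∀ g ∈ subalgebraNormalizer K, Nrm (KS K) (glS d F g) := by
    intro g hg
    have h1 : ∀ a : KS K, ∃ b : KS K, b.mat = (g : Matrix (Fin d ⊕ Fin d) (Fin d ⊕ Fin d) F) * a.mat *
        ((g⁻¹ : GL (Fin d ⊕ Fin d) F) : Matrix (Fin d ⊕ Fin d) (Fin d ⊕ Fin d) F) :=
      fun a => hmat_surj _ ((hg a.mat).mp (hmat_mem a))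
    choose σ hσ using h1
    refine ⟨σ, fun a x => ?_⟩
    rw [glS_apply, glS_apply, hsm, hsm, hσ, c3str_mul_mul_mulVec, c3str_inv_mulVec]
  -- the symplectic groups correspond
  have hSp : ∀ g : GL (Fin d ⊕ Fin d) F, g ∈ Cfsg.spGL d F ↔ glS d F g ∈ Spf F B := by
    intro g
    rw [Cfsg.Agent.S5646.mem_spGL_iff, mem_Spf]
    constructor
    · intro h x y
      rw [hBf, hBf, glS_apply, glS_apply]
      exact h x y
    · intro h x y
      have := h x y
      rw [hBf, hBf, glS_apply, glS_apply] at this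
      exact this
  have hkd : k ∣ d := Cfsg.Agent.Lib.helper6.SPX.field_sa_dvd K hK hsa halt
  have hd1 : 1 ≤ d := by omega
  have hk2 : 2 ≤ finrank F (KS K) := hkK.two_le
  -- conjugates under `glS`
  have hconj : ∀ g x : GL (Fin d ⊕ Fin d) F, glS d F (g⁻¹ * x * g) = (glS d F g)⁻¹ * glS d F x * glS d F g := by
    intro g x
    rw [map_mul, map_mul, map_inv]
  have hrkc : ∀ (g x : GL (Fin d ⊕ Fin d) F) (c : F), rk (glS d F (g⁻¹ * x * g)) c =
      ((x : Matrix (Fin d ⊕ Fin d) (Fin d ⊕ Fin d) F) - c • 1).rank := by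
    intro g x c
    rw [hconj, c3e_rk_conj, c3e_rk_mat]
  have hpow1 : ∀ (g x : GL (Fin d ⊕ Fin d) F) (n : ℕ), (x : Matrix (Fin d ⊕ Fin d) (Fin d ⊕ Fin d) F) ^ n = 1 →
      glS d F (g⁻¹ * x * g) ^ n = 1 := by
    intro g x n h
    have hx : x ^ n = 1 := by
      apply Units.ext
      rw [Units.val_pow_eq_pow_val, h, Units.val_one]
    rw [← map_pow, c3emain_conj_pow, hx, mul_one, inv_mul_cancel, map_one]
  have hqcard : ∃ n : ℕ, 0 < n ∧ q = p ^ n := by
    obtain ⟨n, hn⟩ := FiniteField.card F p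
    exact ⟨n, n.2, by rw [← hq, hn.2]⟩
  constructor
  · intro hall
    by_cases hrp : r = p
    · -- a transvection
      exfalso
      subst hrp
      obtain ⟨x, hxS, hxp, hxrk⟩ := c3e_ex_transvection (F := F) (p := r) d hd1
      have hns := c3emain_nonscalar (x : Matrix (Fin d ⊕ Fin d) (Fin d ⊕ Fin d) F) (by rw [hxrk]; norm_num)
        (by rw [hxrk]; omega)
      obtain ⟨g, hgS, hgN⟩ := hall x hxS ⟨1, by rw [hxp, Units.val_one, one_smul]⟩ hns
      refine c3e_der_p (K := KS K) hk2 (by rw [hfV]; omega) (glS d F (g⁻¹ * x * g)) (hmem_semi _ hgN) 1 ?_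
      rw [hrkc, one_smul, hxrk]
    · have hrF : ((r : ℕ) : F) ≠ 0 := by
        intro h0
        rw [CharP.cast_eq_zero_iff F p] at h0
        exact hrp ((Nat.prime_dvd_prime_iff_eq hpP hrP).mp h0).symm
      have hrq : ¬ r ∣ Fintype.card F := by
        obtain ⟨n, hn0, hn⟩ := hqcard
        rw [hq, hn]
        intro h
        exact hrp ((Nat.prime_dvd_prime_iff_eq hrP hpP).mp (hrP.dvd_of_dvd_pow h))
      by_cases hr2 : r = 2
      · -- the involution `[-1, -1, 1, …, 1]`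
        subst hr2
        have h2 : (2 : F) ≠ 0 := by exact_mod_cast hrF
        obtain ⟨x, hxS, hx2, hxrk⟩ := c3e_ex_involution h2 d hd1
        have hns := c3emain_nonscalar (x : Matrix (Fin d ⊕ Fin d) (Fin d ⊕ Fin d) F) (by rw [hxrk]; norm_num)
          (by rw [hxrk]; omega)
        obtain ⟨g, hgS, hgN⟩ := hall x hxS ⟨1, by rw [hx2, Units.val_one, one_smul]⟩ hns
        have hx2' : (x : Matrix (Fin d ⊕ Fin d) (Fin d ⊕ Fin d) F) ^ 2 = 1 := by
          rw [← Units.val_pow_eq_pow_val, hx2, Units.val_one]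
        obtain ⟨h1, h4⟩ := c3e_der_two (K := KS K) B hB0 hfn h2 hkK (by rw [hfV]; omega) (glS d F (g⁻¹ * x * g))
          ((hSp _).mp (mul_mem (mul_mem (inv_mem hgS) hxS) hgS)) (hmem_semi _ hgN) (hpow1 g x 2 hx2')
          (by rw [hrkc, one_smul, hxrk])
        refine ⟨rfl, by omega, by rw [← hfr]; exact h1, ?_⟩
        obtain ⟨n, hn0, hn⟩ := hqcard
        rw [hn]
        exact (hpP.odd_of_ne_two (fun h => hrp h.symm)).pow
      · -- odd `r ≠ p`
        exfalso
        have hrcard : r ∣ Nat.card (Cfsg.spGL d F) := dvd_trans hΩ (Subgroup.relIndex_dvd_card _ _)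
        obtain ⟨x, hxS, hxr, hx1, hxrk⟩ :=
          Cfsg.Agent.Lib.helper4.TSD.tsdexodd_lead_exists_odd d r hr2 hrq hrcard
        obtain ⟨u, hu⟩ : ∃ u : Fin d ⊕ Fin d → F, u ≠ 0 := by
          haveI : Nontrivial (Fin d ⊕ Fin d → F) := Module.nontrivial_of_finrank_pos (R := F) (by rw [hfV]; omega)
          exact exists_ne 0
        have hns : ∀ z : F, (x : Matrix (Fin d ⊕ Fin d) (Fin d ⊕ Fin d) F) ≠
            z • (1 : Matrix (Fin d ⊕ Fin d) (Fin d ⊕ Fin d) F) := by
          intro z hz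
          obtain ⟨v, hv⟩ := Cfsg.Agent.Lib.helper6.sympForm_nondeg d u hu
          have h1 := (Cfsg.Agent.S5646.mem_spGL_iff x).mp hxS u v
          rw [hz, Matrix.smul_mulVec, Matrix.one_mulVec, Matrix.smul_mulVec, Matrix.one_mulVec,
            Cfsg.Agent.Lib.helper6.sympForm_smul_left, Cfsg.Agent.Lib.helper6.sympForm_smul_right, ← mul_assoc] at h1
          have hz2 : z * z = 1 := by
            have h3 : (z * z - 1) * Cfsg.sympForm d F u v = 0 := by rw [sub_mul, h1, one_mul, sub_self]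
            rcases mul_eq_zero.mp h3 with h | h
            · exact sub_eq_zero.mp h
            · exact absurd h hv
          have hzr : z ^ r = 1 := by
            have h3 : (z • (1 : Matrix (Fin d ⊕ Fin d) (Fin d ⊕ Fin d) F)) ^ r = 1 := by rw [← hz, hxr]
            rw [smul_pow, one_pow] at h3
            have h4 := congrArg (fun M : Matrix (Fin d ⊕ Fin d) (Fin d ⊕ Fin d) F => M *ᵥ u) h3
            simp only [Matrix.smul_mulVec, Matrix.one_mulVec] at h4
            have h5 : (z ^ r - 1) • u = 0 := by rw [sub_smul, h4, one_smul, sub_self]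
            rcases smul_eq_zero.mp h5 with h | h
            · exact sub_eq_zero.mp h
            · exact absurd h hu
          have hz1 : z = 1 := by
            obtain ⟨t, ht⟩ := hrP.odd_of_ne_two hr2
            rw [ht, pow_succ, pow_mul, pow_two, hz2, one_pow, one_mul] at hzr
            exact hzr
          apply hx1
          rw [hz, hz1, one_smul]
        obtain ⟨g, hgS, hgN⟩ := hall x hxS ⟨1, by rw [Units.val_pow_eq_pow_val, hxr, one_smul]⟩ hns
        -- the cardinalities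
        obtain ⟨n', hn'⟩ := hkd
        have hKV : finrank (KS K) (Fin d ⊕ Fin d → F) = 2 * n' := by
          have h3 := Module.finrank_mul_finrank F (KS K) (Fin d ⊕ Fin d → F)
          rw [hfr, hfV] at h3
          have h4 : k * finrank (KS K) (Fin d ⊕ Fin d → F) = k * (2 * n') := by rw [h3, hn']; ring
          exact Nat.eq_of_mul_eq_mul_left hk.pos h4
        obtain ⟨φ, hφi, hφS⟩ := c3e_emb (F := F) B hB0 hBn hKV
        let ψ : Matrix.symplecticGroup (Fin n') (KS K) →* GL (Fin d ⊕ Fin d) F :=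
          (glS d F).symm.toMonoidHom.comp φ
        have hψi : Function.Injective ψ := (glS d F).symm.injective.comp hφi
        have hψr : ψ.range ≤ subalgebraNormalizer K ⊓ Cfsg.spGL d F := by
          rintro _ ⟨A, rfl⟩
          refine ⟨hsemi_mem (φ A) id Function.surjective_id (hφS A).1, ?_⟩
          show (glS d F).symm (φ A) ∈ Cfsg.spGL d F
          rw [hSp, MulEquiv.apply_symm_apply]
          exact SpB_le_Spf B (hφS A)
        letI : Fintype (KS K) := Fintype.ofFinite _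
        have hcK : Fintype.card (KS K) = q ^ k := by
          rw [Module.card_eq_pow_finrank (K := F) (V := KS K), hq, hfr]
        have hC : Nat.card ψ.range =
            (q ^ k) ^ (n' ^ 2) * ∏ j ∈ Finset.range n', ((q ^ k) ^ (2 * (j + 1)) - 1) := by
          rw [← Cfsg.Agent.S0245.result hcK n']
          exact (Nat.card_congr (MonoidHom.ofInjective hψi).toEquiv).symm
        have hS : Nat.card (Cfsg.spGL d F) =
            q ^ ((k * n') ^ 2) * ∏ i ∈ Finset.range (k * n'), (q ^ (2 * (i + 1)) - 1) := by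
          rw [← hn', Cfsg.Agent.Lib.helper4.TSD.tsdexodd_lead_card, Cfsg.Agent.S0245.result hq d]
        have hmul : Nat.card ↥(subalgebraNormalizer K ⊓ Cfsg.spGL d F) *
            (subalgebraNormalizer K).relIndex (Cfsg.spGL d F) = Nat.card (Cfsg.spGL d F) := by
          have h3 := Subgroup.relIndex_mul_relIndex ⊥ (subalgebraNormalizer K ⊓ Cfsg.spGL d F) (Cfsg.spGL d F)
            bot_le inf_le_right
          rwa [Subgroup.relIndex_bot_left, Subgroup.relIndex_bot_left, Subgroup.inf_relIndex_right] at h3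
        have hpos : 0 < Nat.card ↥(subalgebraNormalizer K ⊓ Cfsg.spGL d F) := Nat.card_pos
        have hidx : (subalgebraNormalizer K).relIndex (Cfsg.spGL d F) =
            Nat.card (Cfsg.spGL d F) / Nat.card ↥(subalgebraNormalizer K ⊓ Cfsg.spGL d F) := by
          rw [← hmul, Nat.mul_div_cancel_left _ hpos]
        have hq2 : 2 ≤ q := by rw [← hq]; exact Fintype.one_lt_card
        obtain ⟨i, hi1, hid, hki, hri⟩ := c3e_arith q k n' r
          (Nat.card ↥(subalgebraNormalizer K ⊓ Cfsg.spGL d F)) hrP hk hq2 (by rw [← hq]; exact hrq)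
          (by rw [← hC]; exact Subgroup.card_dvd_of_le hψr)
          (by rw [← hS, ← hmul]; exact dvd_mul_right _ _)
          (by rw [← hS, ← hidx]; exact hΩ)
        refine c3e_der_odd (K := KS K) B hB0 hfn hr2 hrF hrq hkK hfV hd1 (by rw [hfr]; exact ⟨n', hn'⟩)
          (by rw [hfr]; exact hki) (by rw [hq]; exact hri) (glS d F (g⁻¹ * x * g))
          ((hSp _).mp (mul_mem (mul_mem (inv_mem hgS) hxS) hgS)) (hmem_semi _ hgN) (hpow1 g x r hxr) ?_
          (by rw [hrkc, one_smul]; exact hxrk)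
        intro h1
        rw [map_eq_one_iff _ (glS d F).injective] at h1
        have h2 : x = g * (g⁻¹ * x * g) * g⁻¹ := by group
        rw [h1, mul_one, mul_inv_cancel] at h2
        apply hx1
        rw [h2, Units.val_one]
  · rintro ⟨rfl, rfl, rfl, hodd⟩
    intro x hxS ⟨z, hz⟩ hns
    have h2 : (2 : F) ≠ 0 := by
      intro h0
      have h0' : ((2 : ℕ) : F) = 0 := by exact_mod_cast h0
      rw [CharP.cast_eq_zero_iff F p] at h0'
      have hp2 : p = 2 := (Nat.prime_dvd_prime_iff_eq hpP Nat.prime_two).mp h0'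
      obtain ⟨n, hn0, hn⟩ := hqcard
      rw [hn, hp2] at hodd
      exact (Nat.not_even_iff_odd.mpr hodd) ((Nat.even_pow.mpr ⟨even_two, hn0.ne'⟩))
    have hxx : (x : Matrix (Fin 2 ⊕ Fin 2) (Fin 2 ⊕ Fin 2) F) * (x : Matrix (Fin 2 ⊕ Fin 2) (Fin 2 ⊕ Fin 2) F) =
        z • (1 : Matrix (Fin 2 ⊕ Fin 2) (Fin 2 ⊕ Fin 2) F) := by
      rw [← hz, Units.val_pow_eq_pow_val, pow_two]
    obtain ⟨u, hu⟩ : ∃ u : Fin 2 ⊕ Fin 2 → F, u ≠ 0 := by
      haveI : Nontrivial (Fin 2 ⊕ Fin 2 → F) := Module.nontrivial_of_finrank_pos (R := F) (by rw [hfV]; omega)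
      exact exists_ne 0
    obtain ⟨v, hv⟩ := Cfsg.Agent.Lib.helper6.sympForm_nondeg 2 u hu
    have hz2 : z * z = 1 := by
      have h0 := (Cfsg.Agent.S5646.mem_spGL_iff x).mp hxS u v
      have h1 := (Cfsg.Agent.S5646.mem_spGL_iff x).mp hxS
        ((x : Matrix (Fin 2 ⊕ Fin 2) (Fin 2 ⊕ Fin 2) F) *ᵥ u) ((x : Matrix (Fin 2 ⊕ Fin 2) (Fin 2 ⊕ Fin 2) F) *ᵥ v)
      rw [Matrix.mulVec_mulVec, Matrix.mulVec_mulVec, hxx, Matrix.smul_mulVec, Matrix.one_mulVec, Matrix.smul_mulVec,
        Matrix.one_mulVec, Cfsg.Agent.Lib.helper6.sympForm_smul_left, Cfsg.Agent.Lib.helper6.sympForm_smul_right,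
        ← mul_assoc, h0] at h1
      have h3 : (z * z - 1) * Cfsg.sympForm 2 F u v = 0 := by rw [sub_mul, h1, one_mul, sub_self]
      rcases mul_eq_zero.mp h3 with h | h
      · exact sub_eq_zero.mp h
      · exact absurd h hv
    have hKV : finrank (KS K) (Fin 2 ⊕ Fin 2 → F) = 2 := by
      have h3 := Module.finrank_mul_finrank F (KS K) (Fin 2 ⊕ Fin 2 → F)
      rw [hfr, hfV] at h3
      omega
    rcases mul_self_eq_one_iff.mp hz2 with rfl | rfl
    · -- involutions
      rw [one_smul] at hxx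
      have hx1 : (x : Matrix (Fin 2 ⊕ Fin 2) (Fin 2 ⊕ Fin 2) F) ≠ 1 := fun h => hns 1 (by rw [h, one_smul])
      have hxm : (x : Matrix (Fin 2 ⊕ Fin 2) (Fin 2 ⊕ Fin 2) F) ≠ -1 := fun h => hns (-1) (by rw [h, neg_smul, one_smul])
      have hdimx := c3e_inv_fix_two h2 x hxS hxx hx1 hxm
      obtain ⟨y, hyS, ⟨σ, hσ⟩, hy2, hyfix⟩ := c3e_if_inv (F := F) B hB0 hBn hfr hKV
      have hy'S : (glS 2 F).symm y ∈ Cfsg.spGL 2 F := by
        rw [hSp, MulEquiv.apply_symm_apply]
        exact hyS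
      have hy'N : (glS 2 F).symm y ∈ subalgebraNormalizer K := hsemi_mem y σ σ.surjective hσ
      have hy'2 : (((glS 2 F).symm y : GL (Fin 2 ⊕ Fin 2) F) : Matrix (Fin 2 ⊕ Fin 2) (Fin 2 ⊕ Fin 2) F) *
          (((glS 2 F).symm y : GL (Fin 2 ⊕ Fin 2) F) : Matrix (Fin 2 ⊕ Fin 2) (Fin 2 ⊕ Fin 2) F) = 1 := by
        have h3 : (glS 2 F).symm y ^ 2 = 1 := by rw [← map_pow, hy2, map_one]
        rw [← Units.val_mul, ← pow_two, h3, Units.val_one]
      have hdimy : finrank F (LinearMap.ker ((((glS 2 F).symm y : GL (Fin 2 ⊕ Fin 2) F) :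
          Matrix (Fin 2 ⊕ Fin 2) (Fin 2 ⊕ Fin 2) F).mulVecLin - LinearMap.id)) = 2 := by
        rw [← c3e_fixc_mat, MulEquiv.apply_symm_apply, hyfix]
      obtain ⟨g, hgS, hg⟩ := Cfsg.Agent.Lib.Helper27.SpInv.sp_invol_conj h2 2 x ((glS 2 F).symm y) hxS hy'S hxx hy'2
        (by rw [hdimx, hdimy])
      exact ⟨g, hgS, by rw [hg]; exact hy'N⟩
    · -- `x² = -1`
      rw [neg_smul, one_smul] at hxx
      obtain ⟨y, hyS, hyy⟩ := c3e_if_sqneg (F := F) B hB0 hBn hKV
      have hy'S : (glS 2 F).symm y ∈ Cfsg.spGL 2 F := by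
        rw [hSp, MulEquiv.apply_symm_apply]
        exact SpB_le_Spf B hyS
      have hy'N : (glS 2 F).symm y ∈ subalgebraNormalizer K := hsemi_mem y id Function.surjective_id hyS.1
      have hy'2 : (((glS 2 F).symm y : GL (Fin 2 ⊕ Fin 2) F) : Matrix (Fin 2 ⊕ Fin 2) (Fin 2 ⊕ Fin 2) F) *
          (((glS 2 F).symm y : GL (Fin 2 ⊕ Fin 2) F) : Matrix (Fin 2 ⊕ Fin 2) (Fin 2 ⊕ Fin 2) F) = -1 := by
        apply c3str_mat_ext
        intro w
        rw [← Matrix.mulVec_mulVec, glS_symm_mulVec, glS_symm_mulVec, hyy, Matrix.neg_mulVec, Matrix.one_mulVec]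
      obtain ⟨g, hgS, hg⟩ := Cfsg.Agent.Lib.Helper27.SpInv.sp_sqneg_conj h2 2 x ((glS 2 F).symm y) hxS hy'S hxx hy'2
      exact ⟨g, hgS, by rw [hg]; exact hy'N⟩

end Cfsg.Agent.Lib.Helper10.C3E
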